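import Groth.Prelude.Def_Flat
import Mathlib.Topology.KrullDimension
import Mathlib.Topology.NoetherianSpace

/-!
# Combinatorial dimension of topological spaces
-/

set_option autoImplicit false

universe u v

open TopologicalSpace Topology Order

namespace Groth.Agent.TopDim

variable {X : Type u} [TopologicalSpace X]

lemma dim_le_iff {c : WithBot ℕ∞} :
    topologicalKrullDim X ≤ c ↔ ∀ l : LTSeries (IrreducibleCloseds X), (l.length : WithBot ℕ∞) ≤ c :=
  iSup_le_iff

lemma length_le_dim (l : LTSeries (IrreducibleCloseds X)) :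
    (l.length : WithBot ℕ∞) ≤ topologicalKrullDim X :=
  LTSeries.length_le_krullDim l

lemma head_le (l : LTSeries (IrreducibleCloseds X)) (i : Fin (l.length + 1)) : l.head ≤ l i :=
  l.monotone (Fin.zero_le i)

/-- A chain all of whose members meet an open set gives a chain in that open set. -/
lemma le_dim_of_meets (l : LTSeries (IrreducibleCloseds X)) (U : Opens X)
    (h : ((l.head : Set X) ∩ (U : Set X)).Nonempty) :
    (l.length : WithBot ℕ∞) ≤ topologicalKrullDim (U : Set X) := by
  have hne : ∀ i, ((Subtype.val : ↥(U : Set X) → X) ⁻¹' (l i : Set X)).Nonempty := fun i => by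
    obtain ⟨y, hy, hyU⟩ := h
    exact ⟨⟨y, hyU⟩, head_le l i hy⟩
  let e := (IrreducibleCloseds.orderIsoOfIsOpenEmbedding (Subtype.val : ↥(U : Set X) → X)
    U.isOpen.isOpenEmbedding_subtypeVal).symm
  exact length_le_dim ⟨l.length, fun i => e ⟨l i, hne i⟩, fun i => e.strictMono (l.step i)⟩

/-- An irreducible closed set, seen inside a set containing it. -/
def restrictTo (Y : Set X) (Z : IrreducibleCloseds X) (h : (Z : Set X) ⊆ Y) :
    IrreducibleCloseds Y where
  carrier := Subtype.val ⁻¹' (Z : Set X)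
  isIrreducible' := by
    obtain ⟨⟨z, hz⟩, hp⟩ := Z.isIrreducible
    refine ⟨⟨⟨z, h hz⟩, hz⟩, ?_⟩
    intro u v hu hv hus hvs
    obtain ⟨u', hu', rfl⟩ := isOpen_induced_iff.1 hu
    obtain ⟨v', hv', rfl⟩ := isOpen_induced_iff.1 hv
    obtain ⟨a, ha, ha'⟩ := hus
    obtain ⟨b, hb, hb'⟩ := hvs
    obtain ⟨c, hc, hcu, hcv⟩ := hp u' v' hu' hv' ⟨a.1, ha, ha'⟩ ⟨b.1, hb, hb'⟩
    exact ⟨⟨c, h hc⟩, hc, hcu, hcv⟩
  isClosed' := Z.isClosed.preimage continuous_subtype_val

/-- A chain whose last member lies in a set gives a chain in that set. -/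
lemma le_dim_of_subset (l : LTSeries (IrreducibleCloseds X)) (Y : Set X)
    (h : (l.last : Set X) ⊆ Y) : (l.length : WithBot ℕ∞) ≤ topologicalKrullDim Y := by
  have hsub : ∀ i, (l i : Set X) ⊆ Y := fun i => fun y hy => h ((show l i ≤ l.last from l.monotone (Fin.le_last i)) hy)
  refine length_le_dim ⟨l.length, fun i => restrictTo Y (l i) (hsub i), fun i => ?_⟩
  have hl : l i.castSucc < l i.succ := l.step i
  refine lt_of_le_of_ne (α := IrreducibleCloseds Y) (fun y hy => hl.le hy) fun he => hl.ne ?_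
  refine IrreducibleCloseds.ext (Set.ext fun y => ⟨fun hy => ?_, fun hy => ?_⟩)
  · exact hl.le hy
  · have h2 : (⟨y, hsub i.succ hy⟩ : Y) ∈
        (restrictTo Y (l i.castSucc) (hsub i.castSucc) : Set Y) := by rw [he]; exact hy
    exact h2

lemma le_localDim_of_mem (l : LTSeries (IrreducibleCloseds X)) {x : X} (hx : x ∈ l.head) :
    (l.length : WithBot ℕ∞) ≤ FlatMor.localDim X x :=
  le_iInf fun U => le_dim_of_meets l U.1 ⟨x, hx, U.2⟩

lemma localDim_le_dim_opens (U : Opens X) {x : X} (hx : x ∈ U) :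
    FlatMor.localDim X x ≤ topologicalKrullDim (U : Set X) :=
  iInf_le (fun U : {U : Opens X // x ∈ U} => topologicalKrullDim (U.1 : Set X)) ⟨U, hx⟩

lemma localDim_le_dim (x : X) : FlatMor.localDim X x ≤ topologicalKrullDim X :=
  (localDim_le_dim_opens ⊤ (Opens.mem_top x)).trans (topologicalKrullDim_subspace_le X _)

lemma exists_opens_dim_eq (x : X) :
    ∃ U : Opens X, x ∈ U ∧ topologicalKrullDim (U : Set X) = FlatMor.localDim X x := by
  have : Nonempty {U : Opens X // x ∈ U} := ⟨⟨⊤, Opens.mem_top x⟩⟩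
  obtain ⟨U, hU⟩ := csInf_mem (Set.range_nonempty
    fun U : {U : Opens X // x ∈ U} => topologicalKrullDim (U.1 : Set X))
  exact ⟨U.1, U.2, hU⟩

lemma localDim_nonneg (x : X) : 0 ≤ FlatMor.localDim X x :=
  le_localDim_of_mem (RelSeries.singleton _ ⟨closure {x}, isIrreducible_singleton.closure,
    isClosed_closure⟩) (subset_closure rfl)

lemma dim_nonneg [Nonempty X] : 0 ≤ topologicalKrullDim X :=
  (localDim_nonneg (Classical.arbitrary X)).trans (localDim_le_dim _)

/-- The dimension is bounded as soon as every irreducible closed set lies in a member of a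
family of bounded dimension. -/
lemma dim_le_iSup {ι : Sort v} (Y : ι → Set X)
    (h : ∀ Z : IrreducibleCloseds X, ∃ i, (Z : Set X) ⊆ Y i) :
    topologicalKrullDim X ≤ ⨆ i, topologicalKrullDim (Y i) :=
  dim_le_iff.2 fun l => by
    obtain ⟨i, hi⟩ := h l.last
    exact (le_dim_of_subset l _ hi).trans (le_iSup (fun i => topologicalKrullDim (Y i)) i)

lemma iSup_dim_le {ι : Sort v} (Y : ι → Set X) :
    ⨆ i, topologicalKrullDim (Y i) ≤ topologicalKrullDim X :=
  iSup_le fun i => topologicalKrullDim_subspace_le X (Y i)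

/-- An irreducible set lies in one of the members of a locally finite closed covering. -/
lemma exists_subset_of_locallyFinite {ι : Type v} (Y : ι → Set X) (hY : ∀ i, IsClosed (Y i))
    (hlf : LocallyFinite Y) (hcov : ⋃ i, Y i = Set.univ) (Z : IrreducibleCloseds X) :
    ∃ i, (Z : Set X) ⊆ Y i := by
  classical
  obtain ⟨x, hx⟩ := Z.isIrreducible.nonempty
  obtain ⟨N, hN, hfin⟩ := hlf x
  obtain ⟨V, hVN, hV, hxV⟩ := mem_nhds_iff.1 hN
  have hsub : (Z : Set X) ⊆ ⋃₀ (↑(hfin.toFinset.image Y) : Set (Set X)) := by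
    refine (subset_closure_inter_of_isPreirreducible_of_isOpen Z.isIrreducible.isPreirreducible hV
      ⟨x, hx, hxV⟩).trans (closure_minimal ?_ ?_)
    · rintro y ⟨-, hyV⟩
      obtain ⟨i, hi⟩ : ∃ i, y ∈ Y i := Set.mem_iUnion.1 (hcov ▸ Set.mem_univ y)
      exact ⟨Y i, Finset.mem_image_of_mem Y (hfin.mem_toFinset.2 ⟨y, hi, hVN hyV⟩), hi⟩
    · rw [Set.sUnion_eq_biUnion]
      exact (Finset.finite_toSet _).isClosed_biUnion fun t ht => by
        obtain ⟨i, -, rfl⟩ := Finset.mem_image.1 ht
        exact hY i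
  obtain ⟨t, ht, hZt⟩ := isIrreducible_iff_sUnion_isClosed.1 Z.isIrreducible _
    (fun t ht => by obtain ⟨i, -, rfl⟩ := Finset.mem_image.1 ht; exact hY i) hsub
  obtain ⟨i, -, rfl⟩ := Finset.mem_image.1 ht
  exact ⟨i, hZt⟩

lemma dim_eq_iSup_of_locallyFinite {ι : Type v} (Y : ι → Set X) (hY : ∀ i, IsClosed (Y i))
    (hlf : LocallyFinite Y) (hcov : ⋃ i, Y i = Set.univ) :
    topologicalKrullDim X = ⨆ i, topologicalKrullDim (Y i) :=
  (dim_le_iSup Y (exists_subset_of_locallyFinite Y hY hlf hcov)).antisymm (iSup_dim_le Y)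

/-- A Noetherian `T₀` space of dimension at most `0` is finite and discrete. -/
lemma finite_discrete_of_dim_le_zero [NoetherianSpace X] [T0Space X]
    (h : topologicalKrullDim X ≤ 0) : Finite X ∧ DiscreteTopology X := by
  have hmax := Order.krullDim_nonpos_iff_forall_isMax.1 h
  have hsing : ∀ Z : IrreducibleCloseds X, ∀ y ∈ Z, (Z : Set X) = {y} := fun Z y hy => by
    refine Set.Subset.antisymm (fun z hz => ?_) (Set.singleton_subset_iff.2 hy)
    have he : ∀ w ∈ Z, (Z : Set X) = closure {w} := fun w hw => by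
      have hle : (⟨closure {w}, isIrreducible_singleton.closure, isClosed_closure⟩ :
          IrreducibleCloseds X) ≤ Z := closure_minimal (Set.singleton_subset_iff.2 hw) Z.isClosed
      exact Set.Subset.antisymm (hmax _ hle) hle
    exact Set.mem_singleton_iff.2 ((inseparable_iff_closure_eq.2 ((he z hz).symm.trans (he y hy))).eq)
  have hc : ∀ y : X, irreducibleComponent y = {y} := fun y =>
    hsing ⟨irreducibleComponent y, isIrreducible_irreducibleComponent,
      isClosed_irreducibleComponent⟩ y mem_irreducibleComponent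
  have : T1Space X := ⟨fun y => hc y ▸ isClosed_irreducibleComponent⟩
  have hfin : Finite X := by
    have : Finite (irreducibleComponents X) :=
      (NoetherianSpace.finite_irreducibleComponents (α := X)).to_subtype
    refine Finite.of_injective (fun y : X => (⟨irreducibleComponent y,
      irreducibleComponent_mem_irreducibleComponents y⟩ : irreducibleComponents X)) fun a b hab => ?_
    exact Set.singleton_injective ((hc a).symm.trans ((congrArg Subtype.val hab).trans (hc b)))
  exact ⟨hfin, inferInstance⟩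

end Groth.Agent.TopDim
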